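import Mathlib

set_option autoImplicit false

/-!
A non-trivial element of a free group acts non-trivially in some finite symmetric group, and hence
in all large alternating groups.
-/

namespace CfsgLib.FreeGroupLaws

open Equiv

/-- A partial injection of a finite type extends to a permutation. -/
lemma exists_perm_extend {X : Type*} [Finite X] (R : X → X → Prop)
    (hfun : ∀ x y z, R x y → R x z → y = z) (hinj : ∀ x y z, R x z → R y z → x = y) :
    ∃ e : Perm X, ∀ x y, R x y → e x = y := by
  classical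
  have := Fintype.ofFinite X
  let e₀ : {x // ∃ y, R x y} ≃ {y // ∃ x, R x y} :=
    { toFun := fun x => ⟨x.2.choose, x.1, x.2.choose_spec⟩
      invFun := fun y => ⟨y.2.choose, y.1, y.2.choose_spec⟩
      left_inv := fun x => Subtype.ext (hinj _ _ _ (Exists.choose_spec
        (p := fun x' => R x' x.2.choose) ⟨x.1, x.2.choose_spec⟩) x.2.choose_spec)
      right_inv := fun y => Subtype.ext (hfun _ _ _ (Exists.choose_spec
        (p := fun y' => R y.2.choose y') ⟨y.1, y.2.choose_spec⟩) y.2.choose_spec) }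
  refine ⟨e₀.extendSubtype, fun x y h => ?_⟩
  rw [Equiv.extendSubtype_apply_of_mem e₀ x ⟨y, h⟩]
  exact hfun _ _ _ (Exists.choose_spec (p := fun y' => R x y') ⟨y, h⟩) h

lemma exists_perm_lift_ne_one {α : Type*} (w : FreeGroup α) (hw : w ≠ 1) :
    ∃ (m : ℕ) (f : α → Perm (Fin m)), FreeGroup.lift f w ≠ 1 := by
  classical
  set L := w.toWord with hL
  have hred : FreeGroup.IsReduced L := FreeGroup.isReduced_toWord
  have hred' : ∀ (k : ℕ) (h : k + 1 < L.length), L[k].1 = L[k + 1].1 → L[k].2 = L[k + 1].2 :=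
    fun k h => List.isChain_iff_getElem.mp hred k h
  let R : α → Fin (L.length + 1) → Fin (L.length + 1) → Prop := fun a x y =>
    ∃ (k : ℕ) (h : k < L.length), (L[k] = (a, true) ∧ x.1 = k + 1 ∧ y.1 = k) ∨
      (L[k] = (a, false) ∧ x.1 = k ∧ y.1 = k + 1)
  have hclash : ∀ (a : α) (k : ℕ) (h : k + 1 < L.length) (b c : Bool),
      L[k] = (a, b) → L[k + 1] = (a, c) → b = c := by
    intro a k h b c h1 h2
    have := hred' k h (by rw [h1, h2])
    simpa [h1, h2] using this
  have hext : ∀ a : α, ∃ e : Perm (Fin (L.length + 1)), ∀ x y, R a x y → e x = y := by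
    intro a
    refine exists_perm_extend (R a) ?_ ?_
    · rintro x y z ⟨k, hk, ⟨e1, e2, e3⟩ | ⟨e1, e2, e3⟩⟩ ⟨j, hj, ⟨f1, f2, f3⟩ | ⟨f1, f2, f3⟩⟩
      · exact Fin.ext (by omega)
      · obtain rfl : j = k + 1 := by omega
        exact absurd (hclash a k hj _ _ e1 f1) (by simp)
      · obtain rfl : k = j + 1 := by omega
        exact absurd (hclash a j hk _ _ f1 e1) (by simp)
      · exact Fin.ext (by omega)
    · rintro x y z ⟨k, hk, ⟨e1, e2, e3⟩ | ⟨e1, e2, e3⟩⟩ ⟨j, hj, ⟨f1, f2, f3⟩ | ⟨f1, f2, f3⟩⟩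
      · exact Fin.ext (by omega)
      · obtain rfl : k = j + 1 := by omega
        exact absurd (hclash a j hk _ _ f1 e1) (by simp)
      · obtain rfl : j = k + 1 := by omega
        exact absurd (hclash a k hj _ _ e1 f1) (by simp)
      · exact Fin.ext (by omega)
  choose f hf using hext
  refine ⟨L.length + 1, f, ?_⟩
  have key : ∀ k : ℕ, ∀ hk : k ≤ L.length,
      ((L.drop k).map fun x => cond x.2 (f x.1) (f x.1)⁻¹).prod (Fin.last L.length)
        = ⟨k, Nat.lt_succ_of_le hk⟩ := by
    intro k hk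
    induction hd : L.length - k generalizing k with
    | zero =>
      obtain rfl : k = L.length := by omega
      simp [Fin.last]
    | succ d ih =>
      have hlt : k < L.length := by omega
      rw [List.drop_eq_getElem_cons hlt, List.map_cons, List.prod_cons, Perm.mul_apply,
        ih (k + 1) hlt (by omega)]
      rcases hb : L[k] with ⟨a, b⟩
      cases b
      · rw [cond_false, Perm.inv_eq_iff_eq]
        exact (hf a _ _ ⟨k, hlt, Or.inr ⟨hb, rfl, rfl⟩⟩).symm
      · exact hf a _ _ ⟨k, hlt, Or.inl ⟨hb, rfl, rfl⟩⟩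
  intro h1
  have h2 := key 0 (Nat.zero_le _)
  have hmk : FreeGroup.mk L = w := FreeGroup.mk_toWord
  rw [List.drop_zero, ← FreeGroup.lift_mk, hmk, h1] at h2
  have h3 : L.length = 0 := congrArg Fin.val h2
  exact hw (FreeGroup.toWord_eq_nil_iff.mp (List.length_eq_zero_iff.mp h3))

/-- A non-trivial word takes a non-trivial value in every large alternating group. -/
lemma exists_alternating_lift_ne_one {α : Type*} (w : FreeGroup α) (hw : w ≠ 1) :
    ∃ N : ℕ, ∀ n : ℕ, N ≤ n → ∃ f : α → alternatingGroup (Fin n), FreeGroup.lift f w ≠ 1 := by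
  obtain ⟨m, g, hg⟩ := exists_perm_lift_ne_one w hw
  refine ⟨Nat.card (Fin m ⊕ Fin m), fun n hn => ?_⟩
  obtain ⟨ι⟩ : Nonempty (Fin m ⊕ Fin m ↪ Fin n) :=
    Function.Embedding.nonempty_of_card_le (by simpa [Nat.card_eq_fintype_card] using hn)
  let φ : Perm (Fin m) →* Perm (Fin n) :=
    (Perm.viaEmbeddingHom ι).comp ((Perm.sumCongrHom (Fin m) (Fin m)).comp
      (MonoidHom.prod (MonoidHom.id _) (MonoidHom.id _)))
  have heven : ∀ σ, φ σ ∈ alternatingGroup (Fin n) := by
    intro σ
    rw [Equiv.Perm.mem_alternatingGroup]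
    simp [φ, Perm.viaEmbeddingHom_apply, Perm.viaEmbedding, Perm.sumCongrHom,
      Int.units_mul_self]
  have hinj : Function.Injective φ := by
    refine (Perm.viaEmbeddingHom_injective ι).comp (Perm.sumCongrHom_injective.comp ?_)
    exact fun a b h => congrArg Prod.fst h
  let ψ : Perm (Fin m) →* alternatingGroup (Fin n) := φ.codRestrict _ heven
  refine ⟨fun a => ψ (g a), ?_⟩
  have hcomm : FreeGroup.lift (fun a => ψ (g a)) w = ψ (FreeGroup.lift g w) := by
    have : FreeGroup.lift (fun a => ψ (g a)) = ψ.comp (FreeGroup.lift g) := by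
      ext a; simp
    exact DFunLike.congr_fun this w
  intro h1
  rw [hcomm] at h1
  exact hg (hinj (by simpa [ψ] using congrArg Subtype.val h1))

end CfsgLib.FreeGroupLaws
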