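import Mathlib
import Cfsg.Agent.FreeGroupLaws.Separation

set_option autoImplicit false

/-!
`Witness w X`: some substitution of commutator-subgroup elements of `X` into the word `w` gives a
value which does not commute with some element of the commutator subgroup of `X`. This property
moves up along injective homomorphisms.
-/

namespace CfsgLib.FreeGroupLaws

open scoped commutatorElement

variable {α : Type*}

/-- A strong form of "`w` is not a law in `X` modulo the centre". -/
def Witness (w : FreeGroup α) (X : Type*) [Group X] : Prop :=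
  ∃ (f : α → X) (y : X), (∀ i, f i ∈ commutator X) ∧ y ∈ commutator X ∧
    ¬ Commute (FreeGroup.lift f w) y

lemma lift_comp_apply {G H : Type*} [Group G] [Group H] (φ : G →* H) (f : α → G)
    (w : FreeGroup α) : FreeGroup.lift (fun i => φ (f i)) w = φ (FreeGroup.lift f w) := by
  have h : FreeGroup.lift (fun i => φ (f i)) = φ.comp (FreeGroup.lift f) := by ext i; simp
  exact DFunLike.congr_fun h w

lemma mem_commutator_map {G H : Type*} [Group G] [Group H] (φ : G →* H) {x : G}
    (hx : x ∈ commutator G) : φ x ∈ commutator H := by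
  have h : (commutator G).map φ ≤ commutator H := by
    rw [_root_.map_commutator_eq]
    exact Subgroup.commutator_mono le_top le_top
  exact h ⟨x, hx, rfl⟩

lemma Witness.map {X Y : Type*} [Group X] [Group Y] {w : FreeGroup α} (h : Witness w X)
    (φ : X →* Y) (hφ : Function.Injective φ) : Witness w Y := by
  obtain ⟨f, y, hf, hy, hne⟩ := h
  refine ⟨fun i => φ (f i), φ y, fun i => mem_commutator_map φ (hf i), mem_commutator_map φ hy, ?_⟩
  rw [lift_comp_apply]
  intro hc
  exact hne (hφ (by simpa only [map_mul] using hc.eq))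

lemma Witness.not_law {X : Type*} [Group X] {w : FreeGroup α} (h : Witness w X) :
    ∃ f : α → X ⧸ Subgroup.center X, FreeGroup.lift f w ≠ 1 := by
  obtain ⟨f, y, _, _, hne⟩ := h
  refine ⟨fun i => QuotientGroup.mk' _ (f i), ?_⟩
  rw [lift_comp_apply]
  intro h1
  rw [QuotientGroup.mk'_apply, QuotientGroup.eq_one_iff] at h1
  exact hne (Subgroup.mem_center_iff.mp h1 y).symm

lemma Witness.not_law_commutator {X : Type*} [Group X] {w : FreeGroup α} (h : Witness w X) :
    ∃ f : α → (commutator X : Subgroup X) ⧸ Subgroup.center (commutator X : Subgroup X),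
      FreeGroup.lift f w ≠ 1 := by
  obtain ⟨f, y, hf, hy, hne⟩ := h
  refine ⟨fun i => QuotientGroup.mk' _ ⟨f i, hf i⟩, ?_⟩
  rw [lift_comp_apply]
  intro h1
  rw [QuotientGroup.mk'_apply, QuotientGroup.eq_one_iff] at h1
  have h2 := congrArg Subtype.val (Subgroup.mem_center_iff.mp h1 ⟨y, hy⟩)
  have h3 := lift_comp_apply (commutator X).subtype (fun i => (⟨f i, hf i⟩ : commutator X)) w
  simp only [Subgroup.coe_subtype] at h3
  rw [Subgroup.coe_mul, Subgroup.coe_mul, ← h3] at h2
  exact hne h2.symm

lemma witness_alternating (w : FreeGroup α) (hw : w ≠ 1) :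
    ∃ N : ℕ, ∀ n : ℕ, N ≤ n → Witness w (alternatingGroup (Fin n)) := by
  obtain ⟨N, hN⟩ := exists_alternating_lift_ne_one w hw
  refine ⟨max N 5, fun n hn => ?_⟩
  obtain ⟨f, hf⟩ := hN n (le_trans (le_max_left _ _) hn)
  have h5 : 5 ≤ Nat.card (Fin n) := by
    simpa using le_trans (le_max_right _ _) hn
  have hsimple : IsSimpleGroup (alternatingGroup (Fin n)) := alternatingGroup.isSimpleGroup h5
  have hc : Subgroup.center (alternatingGroup (Fin n)) = ⊥ :=
    alternatingGroup.center_eq_bot (by omega)
  have hnc : FreeGroup.lift f w ∉ Subgroup.center (alternatingGroup (Fin n)) := by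
    rw [hc, Subgroup.mem_bot]; exact hf
  have htop : commutator (alternatingGroup (Fin n)) = ⊤ := by
    rcases (inferInstance : (commutator (alternatingGroup (Fin n))).Normal).eq_bot_or_eq_top
      with h | h
    · exfalso
      apply hnc
      rw [Subgroup.mem_center_iff]
      intro g
      have : ⁅g, FreeGroup.lift f w⁆ ∈ commutator (alternatingGroup (Fin n)) :=
        Subgroup.commutator_mem_commutator (Subgroup.mem_top _) (Subgroup.mem_top _)
      rw [h, Subgroup.mem_bot, commutatorElement_eq_one_iff_mul_comm] at this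
      exact this
    · exact h
  rw [Subgroup.mem_center_iff, not_forall] at hnc
  obtain ⟨y, hy⟩ := hnc
  exact ⟨f, y, fun i => htop ▸ Subgroup.mem_top _, htop ▸ Subgroup.mem_top _, fun h => hy h.eq.symm⟩

end CfsgLib.FreeGroupLaws
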