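import Mathlib
import Cfsg.Agent.FreeGroupLaws.Witness

set_option autoImplicit false

/-!
Over a polynomial ring the matrices `u(X^(2i+1)) l(X) u(X^(2i+2))` generate a free group, in any
characteristic; specialising `X` shows that no non-trivial word is a law modulo scalars in `SL₂`
over large fields.
-/

namespace CfsgLib.FreeGroupLaws

open Polynomial

section Ring
variable {R : Type*} [CommRing R]

/-- Left parameter of a letter. -/
def leftPar (x : ℕ × Bool) (t : R) : R := if x.2 then t ^ (2 * x.1 + 1) else -t ^ (2 * x.1 + 2)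

/-- Right parameter of a letter. -/
def rightPar (x : ℕ × Bool) (t : R) : R := if x.2 then t ^ (2 * x.1 + 2) else -t ^ (2 * x.1 + 1)

/-- Middle parameter of a letter. -/
def midPar (x : ℕ × Bool) (t : R) : R := if x.2 then t else -t

/-- `u(f)` on column vectors. -/
def actU (f : R) (v : R × R) : R × R := (v.1 + f * v.2, v.2)

/-- `l(g)` on column vectors. -/
def actL (g : R) (v : R × R) : R × R := (v.1, g * v.1 + v.2)

/-- The image of `(0,1)` under a word. -/
def wordVec : List (ℕ × Bool) → R → R × R
  | [], _ => (0, 1)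
  | x :: L, t => actU (leftPar x t) (actL (midPar x t) (actU (rightPar x t) (wordVec L t)))

lemma actU_actU (f g : R) (v : R × R) : actU f (actU g v) = actU (f + g) v := by
  ext <;> simp [actU]; ring

lemma wordVec_hom {S : Type*} [CommRing S] (φ : R →+* S) (L : List (ℕ × Bool)) (t : R) :
    wordVec L (φ t) = (φ (wordVec L t).1, φ (wordVec L t).2) := by
  induction L with
  | nil => simp [wordVec]
  | cons x L ih =>
    rw [wordVec, wordVec, ih]
    rcases x with ⟨i, b⟩
    cases b <;> simp [actU, actL, leftPar, rightPar, midPar]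

end Ring

section Degree
variable {F : Type*} [Field F]

lemma natDegree_add_mul {c f d : F[X]} (hf : 0 < f.natDegree) (hd : d ≠ 0)
    (hcd : c.natDegree ≤ d.natDegree) :
    (c + f * d).natDegree = f.natDegree + d.natDegree := by
  have hf0 : f ≠ 0 := fun h => by simp [h] at hf
  rw [natDegree_add_eq_right_of_natDegree_lt, natDegree_mul hf0 hd]
  rw [natDegree_mul hf0 hd]; omega

lemma natDegree_leftPar (x : ℕ × Bool) : 0 < (leftPar x (X : F[X])).natDegree := by
  rcases x with ⟨i, b⟩
  cases b <;> simp [leftPar]

lemma natDegree_rightPar (x : ℕ × Bool) : 0 < (rightPar x (X : F[X])).natDegree := by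
  rcases x with ⟨i, b⟩
  cases b <;> simp [rightPar]

lemma natDegree_sub_pow {a b : ℕ} (ha : 0 < a) (hb : 0 < b) (h : a ≠ b) :
    0 < ((X : F[X]) ^ a - X ^ b).natDegree := by
  rcases Nat.lt_or_gt_of_ne h with h' | h'
  · rw [natDegree_sub_eq_right_of_natDegree_lt (by simpa using h'), natDegree_X_pow]; exact hb
  · rw [natDegree_sub_eq_left_of_natDegree_lt (by simpa using h'), natDegree_X_pow]; exact ha

lemma natDegree_add_pow {a b : ℕ} (ha : 0 < a) (hb : 0 < b) (h : a ≠ b) :
    0 < ((X : F[X]) ^ a + X ^ b).natDegree := by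
  rcases Nat.lt_or_gt_of_ne h with h' | h'
  · rw [natDegree_add_eq_right_of_natDegree_lt (by simpa using h'), natDegree_X_pow]; exact hb
  · rw [natDegree_add_eq_left_of_natDegree_lt (by simpa using h'), natDegree_X_pow]; exact ha

lemma natDegree_middle (x y : ℕ × Bool) (hxy : x.1 = y.1 → x.2 = y.2) :
    0 < (rightPar x (X : F[X]) + leftPar y (X : F[X])).natDegree := by
  rcases x with ⟨i, b⟩
  rcases y with ⟨j, c⟩
  simp only at hxy
  cases b <;> cases c <;> simp only [leftPar, rightPar, if_true, Bool.false_eq_true, if_false]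
  · rw [← neg_add, natDegree_neg]
    exact natDegree_add_pow (by omega) (by omega) (by omega)
  · have : i ≠ j := fun h => by simpa using hxy h
    rw [neg_add_eq_sub]
    exact natDegree_sub_pow (by omega) (by omega) (by omega)
  · have : i ≠ j := fun h => by simpa using hxy h
    rw [← sub_eq_add_neg]
    exact natDegree_sub_pow (by omega) (by omega) (by omega)
  · exact natDegree_add_pow (by omega) (by omega) (by omega)

/-- The shape of the vector of a word. -/
lemma wordVec_shape : ∀ (L : List (ℕ × Bool)) (x : ℕ × Bool), FreeGroup.IsReduced (x :: L) →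
    ∃ c d : F[X], wordVec (x :: L) (X : F[X]) = actU (leftPar x (X : F[X])) (c, d) ∧
      d ≠ 0 ∧ c.natDegree ≤ d.natDegree := by
  have main : ∀ (x : ℕ × Bool) (f c d : F[X]), 0 < f.natDegree → d ≠ 0 →
      c.natDegree ≤ d.natDegree → ∃ c' d' : F[X],
        actL (midPar x (X : F[X])) (actU f (c, d)) = (c', d') ∧ d' ≠ 0 ∧
          c'.natDegree ≤ d'.natDegree := by
    intro x f c d hf hd hcd
    have h1 := natDegree_add_mul hf hd hcd
    have hmid : (midPar x (X : F[X])).natDegree = 1 := by
      rcases x with ⟨i, b⟩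
      cases b <;> simp [midPar]
    have hc0 : c + f * d ≠ 0 := fun h => by simp [h] at h1; omega
    have hd' : d.natDegree ≤ (c + f * d).natDegree := by omega
    have h2 : (midPar x (X : F[X]) * (c + f * d) + d).natDegree = 1 + (c + f * d).natDegree := by
      rw [add_comm, natDegree_add_mul (by omega) hc0 hd', hmid]
    refine ⟨c + f * d, midPar x (X : F[X]) * (c + f * d) + d, by simp [actL, actU],
      fun h => by rw [h, natDegree_zero] at h2; omega, by omega⟩
  intro L
  induction L with
  | nil =>
    intro x _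
    obtain ⟨c', d', h1, h2, h3⟩ := main x (rightPar x (X : F[X])) 0 1 (natDegree_rightPar x)
      one_ne_zero (by simp)
    exact ⟨c', d', by rw [wordVec, wordVec, h1], h2, h3⟩
  | cons y L ih =>
    intro x hx
    rw [FreeGroup.isReduced_cons_cons] at hx
    obtain ⟨c, d, he, hd, hcd⟩ := ih y hx.2
    obtain ⟨c', d', h1, h2, h3⟩ := main x _ c d (natDegree_middle (F := F) x y hx.1) hd hcd
    refine ⟨c', d', ?_, h2, h3⟩
    rw [wordVec, he, actU_actU, h1]

lemma wordVec_fst_ne_zero (L : List (ℕ × Bool)) (hL : FreeGroup.IsReduced L) (hne : L ≠ []) :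
    (wordVec L (X : F[X])).1 ≠ 0 := by
  obtain ⟨x, L, rfl⟩ := List.exists_cons_of_ne_nil hne
  obtain ⟨c, d, he, hd, hcd⟩ := wordVec_shape (F := F) L x hL
  intro h0
  have := natDegree_add_mul (natDegree_leftPar x) hd hcd
  rw [he] at h0
  simp only [actU] at h0
  rw [h0, natDegree_zero] at this
  have := natDegree_leftPar (F := F) x
  omega

end Degree

section Group
open Matrix
variable {F : Type*} [Field F]

/-- The generator attached to the letter `i`. -/
noncomputable def sl2Gen (a : F) (i : ℕ) : Matrix.SpecialLinearGroup (Fin 2) F :=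
  SpecialLinearGroup.transvection zero_ne_one (a ^ (2 * i + 1)) *
    SpecialLinearGroup.transvection one_ne_zero a *
      SpecialLinearGroup.transvection zero_ne_one (a ^ (2 * i + 2))

lemma transvection_mulVec (g : F) (v : F × F) :
    ((SpecialLinearGroup.transvection zero_ne_one g : Matrix.SpecialLinearGroup (Fin 2) F) :
        Matrix (Fin 2) (Fin 2) F) *ᵥ ![v.1, v.2] = ![(actU g v).1, (actU g v).2] ∧
    ((SpecialLinearGroup.transvection one_ne_zero g : Matrix.SpecialLinearGroup (Fin 2) F) :
        Matrix (Fin 2) (Fin 2) F) *ᵥ ![v.1, v.2] = ![(actL g v).1, (actL g v).2] := by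
  constructor <;>
  · ext i
    fin_cases i <;>
      simp [SpecialLinearGroup.transvection_coe, Matrix.mulVec, dotProduct, Fin.sum_univ_two,
        Matrix.single, Matrix.one_apply, actU, actL]

lemma wordVec_eq_prod (a : F) (L : List (ℕ × Bool)) :
    SpecialLinearGroup.coeMonoidHom
      (L.map fun x => cond x.2 (sl2Gen a x.1) (sl2Gen a x.1)⁻¹).prod *ᵥ ![0, 1] =
        ![(wordVec L a).1, (wordVec L a).2] := by
  induction L with
  | nil => simp [wordVec]
  | cons x L ih =>
    rw [List.map_cons, List.prod_cons, map_mul, ← Matrix.mulVec_mulVec, ih,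
      wordVec]
    have hx : cond x.2 (sl2Gen a x.1) (sl2Gen a x.1)⁻¹ =
        SpecialLinearGroup.transvection zero_ne_one (leftPar x a) *
          SpecialLinearGroup.transvection one_ne_zero (midPar x a) *
            SpecialLinearGroup.transvection zero_ne_one (rightPar x a) := by
      rcases x with ⟨i, b⟩
      cases b <;>
        simp [sl2Gen, leftPar, rightPar, midPar, SpecialLinearGroup.transvection_inv,
          _root_.mul_inv_rev, mul_assoc]
    rw [hx, map_mul, map_mul, ← Matrix.mulVec_mulVec, ← Matrix.mulVec_mulVec]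
    simp only [SpecialLinearGroup.coeMonoidHom_apply]
    rw [(transvection_mulVec _ _).1, (transvection_mulVec _ _).2, (transvection_mulVec _ _).1]

/-- Field size beyond which `w` is not a law in `SL₂` modulo the centre. -/
noncomputable def sl2Bound (w : FreeGroup ℕ) : ℕ :=
  max 4 ((wordVec w.toWord (X : ℤ[X])).1.natDegree + 1)

lemma witness_sl2 (w : FreeGroup ℕ) (hw : w ≠ 1) [Fintype F]
    (hq : sl2Bound w ≤ Fintype.card F) : Witness w (Matrix.SpecialLinearGroup (Fin 2) F) := by
  classical
  have hq4 : 4 ≤ Fintype.card F := le_trans (le_max_left _ _) hq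
  obtain ⟨z, hz0, hz⟩ : ∃ z : F, z ≠ 0 ∧ z ^ 2 ≠ 1 := by
    by_contra h
    push Not at h
    have hsub : (Finset.univ : Finset F) ⊆ {0, 1, -1} := by
      intro z _
      by_cases hz : z = 0
      · simp [hz]
      · rcases sq_eq_one_iff.mp (h z hz) with h1 | h1 <;> simp [h1]
    have := Finset.card_le_card hsub
    rw [Finset.card_univ] at this
    have h3 := Finset.card_le_three (a := (0 : F)) (b := 1) (c := -1)
    omega
  set P := (wordVec w.toWord (X : ℤ[X])).1 with hP
  have hX : P.map (Int.castRingHom F) = (wordVec w.toWord (X : F[X])).1 := by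
    have := wordVec_hom (Polynomial.mapRingHom (Int.castRingHom F)) w.toWord (X : ℤ[X])
    rw [coe_mapRingHom, map_X] at this
    exact (congrArg Prod.fst this).symm
  have hne : P.map (Int.castRingHom F) ≠ 0 := by
    rw [hX]
    exact wordVec_fst_ne_zero _ FreeGroup.isReduced_toWord
      (fun h => hw (FreeGroup.toWord_eq_nil_iff.mp h))
  obtain ⟨a, ha⟩ : ∃ a : F, (P.map (Int.castRingHom F)).eval a ≠ 0 := by
    by_contra h
    push Not at h
    refine hne (eq_zero_of_natDegree_lt_card_of_eval_eq_zero' _ Finset.univ (fun a _ => h a) ?_)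
    rw [Finset.card_univ]
    have h1 : (P.map (Int.castRingHom F)).natDegree ≤ P.natDegree := natDegree_map_le
    have h2 : P.natDegree + 1 ≤ Fintype.card F := le_trans (le_max_right 4 _) hq
    omega
  refine ⟨sl2Gen a, SpecialLinearGroup.transvection one_ne_zero 1, fun i => ?_,
    transvection_mem_commutator hz0 hz _ _, fun hc => ha ?_⟩
  · exact mul_mem (mul_mem (transvection_mem_commutator hz0 hz _ _)
      (transvection_mem_commutator hz0 hz _ _)) (transvection_mem_commutator hz0 hz _ _)
  · have hval : (wordVec w.toWord a).1 = (P.map (Int.castRingHom F)).eval a := by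
      have := wordVec_hom (Polynomial.evalRingHom a) w.toWord (X : F[X])
      rw [coe_evalRingHom, eval_X] at this
      rw [this, ← hX]
    rw [← hval]
    set M := FreeGroup.lift (sl2Gen a) w with hM
    have h01 : (M : Matrix (Fin 2) (Fin 2) F) 0 1 = (wordVec w.toWord a).1 := by
      have h := congrFun (wordVec_eq_prod a w.toWord) 0
      rw [← FreeGroup.lift_mk, FreeGroup.mk_toWord] at h
      simpa [Matrix.mulVec, dotProduct, Fin.sum_univ_two, hM] using h
    have h00 := congrFun₂ (congrArg SpecialLinearGroup.coeMonoidHom hc.eq) 0 0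
    rw [map_mul, map_mul] at h00
    simp [SpecialLinearGroup.transvection_coe, Matrix.mul_apply, Fin.sum_univ_two, Matrix.single,
      Matrix.one_apply] at h00
    rw [← h01]; exact h00

end Group

end CfsgLib.FreeGroupLaws
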