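import Mathlib
import Cfsg.Prelude.Def_Classical
import Cfsg.Agent.Eq.Def_Classical
import Cfsg.Agent.FreeGroupLaws.SL2

set_option autoImplicit false

/-!
Alternating groups of large degree and `SL₂` over large fields embed in each classical group.
-/

namespace CfsgLib.FreeGroupLaws

open Matrix

variable {F : Type*} [Field F]

/-- Even permutation matrices. -/
def altToSL (n : ℕ) (F : Type*) [Field F] :
    alternatingGroup (Fin n) →* SpecialLinearGroup (Fin n) F where
  toFun σ := ⟨Matrix.permMatrixHom (σ : Equiv.Perm (Fin n)), by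
    simp [Equiv.Perm.mem_alternatingGroup.mp σ.2]⟩
  map_one' := Subtype.ext (map_one _)
  map_mul' σ τ := Subtype.ext (map_mul _ _ _)

lemma altToSL_injective (n : ℕ) : Function.Injective (altToSL n F) := by
  intro σ τ h
  have h' : Matrix.permMatrixHom (R := F) (σ : Equiv.Perm (Fin n)) =
      Matrix.permMatrixHom (τ : Equiv.Perm (Fin n)) := congrArg Subtype.val h
  apply Subtype.ext
  apply inv_injective
  ext j
  have h2 := congrFun₂ h' j (((σ : Equiv.Perm (Fin n))⁻¹) j)
  rw [Matrix.permMatrixHom_apply, Matrix.permMatrixHom_apply] at h2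
  simp [Equiv.Perm.permMatrix, PEquiv.toMatrix_apply, Equiv.toPEquiv_apply] at h2
  exact congrArg Fin.val h2.symm

/-- `SL₂` in the upper left corner of `SL_(2+k)`. -/
def sl2Block (k : ℕ) (F : Type*) [Field F] :
    SpecialLinearGroup (Fin 2) F →* SpecialLinearGroup (Fin (2 + k)) F where
  toFun A := ⟨Matrix.reindex finSumFinEquiv finSumFinEquiv
      (Matrix.fromBlocks (A : Matrix (Fin 2) (Fin 2) F) 0 0 (1 : Matrix (Fin k) (Fin k) F)), by simp⟩
  map_one' := Subtype.ext (by simp [Matrix.fromBlocks_one])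
  map_mul' A B := Subtype.ext (by
    change Matrix.reindex finSumFinEquiv finSumFinEquiv (Matrix.fromBlocks
        ((A : Matrix (Fin 2) (Fin 2) F) * (B : Matrix (Fin 2) (Fin 2) F)) 0 0
        (1 : Matrix (Fin k) (Fin k) F)) =
      Matrix.reindex finSumFinEquiv finSumFinEquiv
          (Matrix.fromBlocks (A : Matrix (Fin 2) (Fin 2) F) 0 0 (1 : Matrix (Fin k) (Fin k) F)) *
        Matrix.reindex finSumFinEquiv finSumFinEquiv
          (Matrix.fromBlocks (B : Matrix (Fin 2) (Fin 2) F) 0 0 (1 : Matrix (Fin k) (Fin k) F))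
    simp [Matrix.submatrix_mul_equiv, Matrix.fromBlocks_multiply])

lemma sl2Block_injective (k : ℕ) : Function.Injective (sl2Block k F) := by
  intro A B h
  apply Subtype.ext
  have h' : Matrix.reindex finSumFinEquiv finSumFinEquiv
      (Matrix.fromBlocks (A : Matrix (Fin 2) (Fin 2) F) 0 0 (1 : Matrix (Fin k) (Fin k) F)) =
    Matrix.reindex finSumFinEquiv finSumFinEquiv
      (Matrix.fromBlocks (B : Matrix (Fin 2) (Fin 2) F) 0 0 (1 : Matrix (Fin k) (Fin k) F)) :=
    congrArg Subtype.val h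
  exact (Matrix.fromBlocks_inj.mp ((Matrix.reindex _ _).injective h')).1

/-- `A ↦ diag(A, A⁻ᵀ)`. -/
def slHyp (m : ℕ) (F : Type*) [Field F] :
    SpecialLinearGroup (Fin m) F →* Matrix (Fin m ⊕ Fin m) (Fin m ⊕ Fin m) F where
  toFun A := Matrix.fromBlocks (A : Matrix (Fin m) (Fin m) F) 0 0
    (((A⁻¹ : SpecialLinearGroup (Fin m) F) : Matrix (Fin m) (Fin m) F)ᵀ)
  map_one' := by rw [inv_one]; simp [Matrix.fromBlocks_one]
  map_mul' A B := by
    rw [_root_.mul_inv_rev]
    change Matrix.fromBlocks ((A : Matrix (Fin m) (Fin m) F) * (B : Matrix (Fin m) (Fin m) F)) 0 0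
      ((((B⁻¹ : SpecialLinearGroup (Fin m) F) : Matrix (Fin m) (Fin m) F) *
        ((A⁻¹ : SpecialLinearGroup (Fin m) F) : Matrix (Fin m) (Fin m) F))ᵀ) = _
    simp [Matrix.fromBlocks_multiply, Matrix.transpose_mul]

lemma slHyp_injective (m : ℕ) : Function.Injective (slHyp m F) := fun _ _ h =>
  Subtype.ext (Matrix.fromBlocks_inj.mp h).1

lemma sl_mul_inv_coe {m : ℕ} (A : SpecialLinearGroup (Fin m) F) :
    (A : Matrix (Fin m) (Fin m) F) * ((A⁻¹ : SpecialLinearGroup (Fin m) F) : Matrix (Fin m) (Fin m) F)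
      = 1 :=
  congrArg Subtype.val (mul_inv_cancel A)

lemma sl_inv_mul_coe {m : ℕ} (A : SpecialLinearGroup (Fin m) F) :
    ((A⁻¹ : SpecialLinearGroup (Fin m) F) : Matrix (Fin m) (Fin m) F) * (A : Matrix (Fin m) (Fin m) F)
      = 1 :=
  congrArg Subtype.val (inv_mul_cancel A)

lemma slHyp_mem_symplectic (m : ℕ) (A : SpecialLinearGroup (Fin m) F) :
    slHyp m F A ∈ Matrix.symplecticGroup (Fin m) F := by
  rw [SymplecticGroup.mem_iff]
  simp only [slHyp, MonoidHom.coe_mk, OneHom.coe_mk, Matrix.J, Matrix.fromBlocks_multiply,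
    Matrix.fromBlocks_transpose]
  simp only [Matrix.mul_zero, Matrix.zero_mul, add_zero, zero_add, Matrix.mul_one, Matrix.mul_neg,
    Matrix.neg_mul, Matrix.transpose_zero, Matrix.transpose_transpose, neg_zero]
  rw [sl_mul_inv_coe, ← Matrix.transpose_mul, sl_mul_inv_coe, Matrix.transpose_one]

/-- `SL_m` inside `Sp_(2m)`. -/
def slToSp (m : ℕ) (F : Type*) [Field F] :
    SpecialLinearGroup (Fin m) F →* Matrix.symplecticGroup (Fin m) F :=
  (slHyp m F).codRestrict _ (slHyp_mem_symplectic m)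

lemma slToSp_injective (m : ℕ) : Function.Injective (slToSp m F) := fun _ _ h =>
  slHyp_injective m (congrArg Subtype.val h)

/-- Extend by an identity block in the first position. -/
def blockOneLeft (ι κ : Type) [Fintype ι] [DecidableEq ι] [Fintype κ] [DecidableEq κ] (F : Type*)
    [Field F] : Matrix κ κ F →* Matrix (ι ⊕ κ) (ι ⊕ κ) F where
  toFun M := Matrix.fromBlocks 1 0 0 M
  map_one' := Matrix.fromBlocks_one
  map_mul' M N := by simp [Matrix.fromBlocks_multiply]

/-- Extend by an identity block in the second position. -/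
def blockOneRight (ι κ : Type) [Fintype ι] [DecidableEq ι] [Fintype κ] [DecidableEq κ] (F : Type*)
    [Field F] : Matrix κ κ F →* Matrix (κ ⊕ ι) (κ ⊕ ι) F where
  toFun M := Matrix.fromBlocks M 0 0 1
  map_one' := Matrix.fromBlocks_one
  map_mul' M N := by simp [Matrix.fromBlocks_multiply]

lemma slHyp_form (m : ℕ) (A : SpecialLinearGroup (Fin m) F) (v : Fin m ⊕ Fin m → F) :
    (∑ i : Fin m, (slHyp m F A *ᵥ v) (.inl i) * (slHyp m F A *ᵥ v) (.inr i)) =
      ∑ i : Fin m, v (.inl i) * v (.inr i) := by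
  simp only [slHyp, MonoidHom.coe_mk, OneHom.coe_mk, Matrix.fromBlocks_mulVec, Sum.elim_inl,
    Sum.elim_inr, Matrix.zero_mulVec, add_zero, zero_add]
  change ((A : Matrix (Fin m) (Fin m) F) *ᵥ (v ∘ Sum.inl)) ⬝ᵥ _ = (v ∘ Sum.inl) ⬝ᵥ (v ∘ Sum.inr)
  rw [Matrix.dotProduct_mulVec, Matrix.vecMul_transpose, Matrix.mulVec_mulVec, sl_inv_mul_coe,
    Matrix.one_mulVec]

lemma toHomUnits_mem {ι : Type} [Fintype ι] [DecidableEq ι] {G : Type*} [Group G]
    (Q : (ι → F) → F) (φ : G →* Matrix ι ι F) (h : ∀ g v, Q (φ g *ᵥ v) = Q v) (g : G) :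
    φ.toHomUnits g ∈ Cfsg.isometryGroup F Q := by
  intro u _
  exact h g u

lemma witness_isometry {ι : Type} [Fintype ι] [DecidableEq ι] {G : Type*} [Group G]
    {w : FreeGroup ℕ} (Q : (ι → F) → F) (φ : G →* Matrix ι ι F) (hinj : Function.Injective φ)
    (h : ∀ g v, Q (φ g *ᵥ v) = Q v) (hG : Witness w G) : Witness w (Cfsg.isometryGroup F Q) :=
  hG.map (φ.toHomUnits.codRestrict _ (toHomUnits_mem Q φ h))
    fun a b hab => hinj (congrArg (fun x : Cfsg.isometryGroup F Q => ((x : GL ι F) : Matrix ι ι F)) hab)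

variable {w : FreeGroup ℕ}

lemma witness_sp {m : ℕ} (h : Witness w (SpecialLinearGroup (Fin m) F)) :
    Witness w (Matrix.symplecticGroup (Fin m) F) :=
  h.map (slToSp m F) (slToSp_injective m)

lemma witness_quadFormPlus {m : ℕ} (h : Witness w (SpecialLinearGroup (Fin m) F)) :
    Witness w (Cfsg.isometryGroup F (Cfsg.quadFormPlus m F)) :=
  witness_isometry _ (slHyp m F) (slHyp_injective m) (fun A v => slHyp_form m A v) h

lemma witness_quadFormOdd {m : ℕ} (h : Witness w (SpecialLinearGroup (Fin m) F)) :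
    Witness w (Cfsg.isometryGroup F (Cfsg.quadFormOdd m F)) := by
  refine witness_isometry _ ((blockOneLeft Unit (Fin m ⊕ Fin m) F).comp (slHyp m F)) ?_ ?_ h
  · exact fun a b hab => slHyp_injective m (Matrix.fromBlocks_inj.mp hab).2.2.2
  · intro A v
    have h2 := slHyp_form m A (v ∘ Sum.inr)
    simp only [Function.comp] at h2
    simp only [Cfsg.quadFormOdd, blockOneLeft, MonoidHom.comp_apply, MonoidHom.coe_mk,
      OneHom.coe_mk, Matrix.fromBlocks_mulVec, Sum.elim_inl, Sum.elim_inr, Matrix.zero_mulVec,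
      add_zero, zero_add, Matrix.one_mulVec, Function.comp]
    rw [← h2]

lemma witness_quadFormMinus {m : ℕ} (a b : F) (h : Witness w (SpecialLinearGroup (Fin m) F)) :
    Witness w (Cfsg.isometryGroup F (Cfsg.quadFormMinus m F a b)) := by
  refine witness_isometry _ ((blockOneRight (Fin 2) (Fin m ⊕ Fin m) F).comp (slHyp m F)) ?_ ?_ h
  · exact fun x y hxy => slHyp_injective m (Matrix.fromBlocks_inj.mp hxy).1
  · intro A v
    have h2 := slHyp_form m A (v ∘ Sum.inl)
    simp only [Function.comp] at h2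
    simp only [Cfsg.quadFormMinus, blockOneRight, MonoidHom.comp_apply, MonoidHom.coe_mk,
      OneHom.coe_mk, Matrix.fromBlocks_mulVec, Sum.elim_inl, Sum.elim_inr, Matrix.zero_mulVec,
      add_zero, zero_add, Matrix.one_mulVec, Function.comp]
    rw [← h2]

lemma witness_sl_of_alt {n : ℕ} (h : Witness w (alternatingGroup (Fin n))) :
    Witness w (SpecialLinearGroup (Fin n) F) :=
  h.map (altToSL n F) (altToSL_injective n)

lemma witness_sl_of_sl2 {n : ℕ} (hn : 2 ≤ n) (h : Witness w (SpecialLinearGroup (Fin 2) F)) :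
    Witness w (SpecialLinearGroup (Fin n) F) := by
  obtain ⟨k, rfl⟩ := Nat.exists_eq_add_of_le hn
  exact h.map (sl2Block k F) (sl2Block_injective k)

lemma witness_su_of_alt {n q : ℕ} (h : Witness w (alternatingGroup (Fin n))) :
    Witness w (Cfsg.SU n F q) := by
  refine h.map ((altToSL n F).codRestrict _ fun σ u v => ?_)
    fun a b hab => altToSL_injective n (congrArg Subtype.val hab)
  change Cfsg.hermForm n F q ((Matrix.permMatrixHom (σ : Equiv.Perm (Fin n))) *ᵥ u)
    ((Matrix.permMatrixHom (σ : Equiv.Perm (Fin n))) *ᵥ v) = _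
  simp only [Matrix.permMatrixHom_apply, Matrix.permMatrix_mulVec, Cfsg.hermForm, Function.comp]
  exact Equiv.sum_comp ((σ : Equiv.Perm (Fin n))⁻¹) (fun i => u i * v i ^ q)

lemma exists_hermitian_pair [Fintype F] {q : ℕ} (hq : Fintype.card F = q ^ 2) :
    (∃ σ : F →+* F, (∀ x, σ x = x ^ q) ∧ (∀ x, σ (σ x) = x) ∧ q - 1 ≤ Nat.card {x : F // σ x = x}) ∧
    ∃ c d lam δ : F, δ ≠ 0 ∧ δ ^ q = -δ ∧ c ^ (q + 1) = -1 ∧ d ^ (q + 1) = -1 ∧ c ≠ d ∧
      lam ≠ 0 ∧ lam ^ q * (1 + c * d ^ q) = δ := by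
  classical
  obtain ⟨p, hp⟩ := CharP.exists F
  obtain ⟨f, hpr, hf⟩ := FiniteField.card F p
  have : Fact p.Prime := ⟨hpr⟩
  obtain ⟨e, he, hqe⟩ : ∃ e, e ≤ (f : ℕ) ∧ q = p ^ e :=
    (Nat.dvd_prime_pow hpr).mp ⟨q, by rw [← hf, hq, sq]⟩
  have hq1 : 1 < q := by
    have := Fintype.one_lt_card (α := F)
    by_contra h
    have h2 : q ^ 2 ≤ 1 := pow_le_one₀ (Nat.zero_le _) (by omega)
    omega
  let σ : F →+* F := iterateFrobenius F p e
  have hσ : ∀ x, σ x = x ^ q := fun x => by simp [σ, iterateFrobenius_def, hqe]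
  have hσ2 : ∀ x, σ (σ x) = x := fun x => by
    rw [hσ, hσ, ← pow_mul, ← sq, ← hq, FiniteField.pow_card]
  obtain ⟨g, hg⟩ := IsCyclic.exists_generator (α := Fˣ)
  have hord : orderOf g = (q - 1) * (q + 1) := by
    rw [orderOf_eq_card_of_forall_mem_zpowers hg, Nat.card_units, Nat.card_eq_fintype_card, hq]
    obtain ⟨r, rfl⟩ : ∃ r, q = r + 1 := ⟨q - 1, by omega⟩
    rw [Nat.add_sub_cancel]
    have : (r + 1) ^ 2 = r * (r + 1 + 1) + 1 := by ring
    omega
  have hnorm : ∀ a : Fˣ, a ^ (q - 1) = 1 → ∃ b : Fˣ, b ^ (q + 1) = a := by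
    intro a ha
    obtain ⟨k, rfl⟩ := Subgroup.mem_zpowers_iff.mp (hg a)
    rw [← zpow_natCast, ← _root_.zpow_mul, ← orderOf_dvd_iff_zpow_eq_one, hord] at ha
    push_cast at ha
    rw [mul_comm k] at ha
    obtain ⟨j, hj⟩ := (mul_dvd_mul_iff_left (a := ((q - 1 : ℕ) : ℤ)) (by omega)).mp ha
    exact ⟨g ^ j, by rw [← zpow_natCast, ← _root_.zpow_mul, hj, mul_comm j]; push_cast; rfl⟩
  refine ⟨⟨σ, hσ, hσ2, ?_⟩, ?_⟩
  · have hmem : ∀ i : Fin (q - 1), σ ((g ^ ((q + 1) * i.val) : Fˣ) : F) =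
        ((g ^ ((q + 1) * i.val) : Fˣ) : F) := by
      intro i
      rw [hσ, ← Units.val_pow_eq_pow_val, ← pow_mul]
      refine congrArg Units.val (pow_eq_pow_iff_modEq.mpr ?_)
      rw [hord]
      obtain ⟨r, hr⟩ : ∃ r, q = r + 1 := ⟨q - 1, by omega⟩
      have : (q + 1) * i.val * q = (q + 1) * i.val + (q - 1) * (q + 1) * i.val := by
        generalize i.val = k
        subst hr
        rw [Nat.add_sub_cancel]; ring
      rw [this]
      exact Nat.ModEq.symm (Nat.modEq_iff_dvd' (Nat.le_add_right _ _) |>.mpr (by simp))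
    have hinj : Function.Injective (fun i : Fin (q - 1) =>
        (⟨((g ^ ((q + 1) * i.val) : Fˣ) : F), hmem i⟩ : {x : F // σ x = x})) := by
      intro i j h
      have h' : g ^ ((q + 1) * i.val) = g ^ ((q + 1) * j.val) :=
        Units.ext (congrArg Subtype.val h)
      have hlt : ∀ i : Fin (q - 1), (q + 1) * i.val < orderOf g := fun i => by
        rw [hord, mul_comm (q - 1)]; exact Nat.mul_lt_mul_of_pos_left i.isLt (by omega)
      have := pow_injOn_Iio_orderOf (hlt i) (hlt j) h'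
      exact Fin.ext (Nat.eq_of_mul_eq_mul_left (by omega) this)
    simpa using Nat.card_le_card_of_injective _ hinj
  · have hneg : ((-1 : Fˣ)) ^ (q - 1) = 1 := by
      rcases Nat.even_or_odd q with h | h
      · have h2 : (2 : F) = 0 := by
          have hp2 : p = 2 := by
            rw [hqe] at h
            exact hpr.even_iff.mp (Nat.even_pow.mp h).1
          subst hp2
          exact_mod_cast CharP.cast_eq_zero F 2
        have : (-1 : Fˣ) = 1 := Units.ext (by simp; linear_combination -h2)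
        rw [this, one_pow]
      · exact (Nat.Odd.sub_odd h odd_one).neg_one_pow
    obtain ⟨c, hc⟩ := hnorm _ hneg
    have hc' : (c : F) ^ (q + 1) = -1 := by
      rw [← Units.val_pow_eq_pow_val, hc]; simp
    have heps : (g ^ (q - 1)) ^ (q + 1) = 1 := by
      rw [← pow_mul, ← hord, pow_orderOf_eq_one]
    have hne : g ^ (q - 1) ≠ 1 := by
      intro h
      have := Nat.le_of_dvd (by omega) (orderOf_dvd_of_pow_eq_one h)
      rw [hord] at this
      have : (q - 1) * 2 ≤ (q - 1) * (q + 1) := Nat.mul_le_mul_left _ (by omega)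
      omega
    set d : Fˣ := c * g ^ (q - 1) with hd
    have hd' : (d : F) ^ (q + 1) = -1 := by
      rw [← Units.val_pow_eq_pow_val, hd, mul_pow, heps, mul_one, hc]; simp
    have hcd : (c : F) ≠ d := fun h => hne (by
      have h' : c = c * g ^ (q - 1) := Units.ext h
      exact (mul_eq_left.mp h'.symm))
    have hδ0 : (1 : F) + c * (d : F) ^ q ≠ 0 := by
      intro h
      apply hcd
      have : (c : F) * (d : F) ^ q = (d : F) * (d : F) ^ q := by
        rw [← pow_succ', hd']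
        linear_combination h
      exact mul_right_cancel₀ (pow_ne_zero _ d.ne_zero) this
    set δ : F := (g : F) - (g : F) ^ q with hδ
    have hδne : δ ≠ 0 := by
      intro h
      have h' : g ^ q = g := Units.ext (by push_cast; linear_combination -h)
      have h'' : g ^ (q - 1) * g = 1 * g := by
        rw [← pow_succ, Nat.sub_add_cancel (by omega), h', one_mul]
      exact hne (mul_right_cancel h'')
    have hδq : δ ^ q = -δ := by
      rw [← hσ, hδ, map_sub, ← hσ (g : F), hσ2]; ring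
    refine ⟨c, d, σ (δ / (1 + c * (d : F) ^ q)), δ, hδne, hδq, hc', hd', hcd, ?_, ?_⟩
    · exact (map_ne_zero σ).mpr (div_ne_zero hδne hδ0)
    · rw [← hσ, hσ2, div_mul_cancel₀ _ hδ0]

lemma witness_su_of_sl2 [Fintype F] {n q : ℕ} (hn : 2 ≤ n) (hq : Fintype.card F = q ^ 2)
    (hw : w ≠ 1) (hbig : sl2Bound w + 1 ≤ q) : Witness w (Cfsg.SU n F q) := by
  classical
  obtain ⟨⟨σ, hσ, hσ2, hcard⟩, c, d, lam, δ, hδne, hδq, hc, hd, hcd, hlam, hld⟩ :=
    exists_hermitian_pair hq
  let F₀ : Subfield F := σ.eqLocusField (RingHom.id F)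
  have hmem : ∀ x : F, x ∈ F₀ ↔ σ x = x := fun x => Iff.rfl
  have hF₀ : Witness w (SpecialLinearGroup (Fin 2) F₀) := by
    apply witness_sl2 w hw
    rw [← Nat.card_eq_fintype_card]
    have : Nat.card F₀ = Nat.card {x : F // σ x = x} :=
      Nat.card_congr (Equiv.subtypeEquivRight hmem)
    omega
  let P : Matrix (Fin 2) (Fin 2) F := !![1, lam; c, lam * d]
  have hP : P.det ≠ 0 := by
    simp only [P, Matrix.det_fin_two_of, one_mul]
    rw [mul_comm lam c, mul_comm c lam, ← mul_sub]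
    exact mul_ne_zero hlam (sub_ne_zero_of_ne (Ne.symm hcd))
  have hld2 : lam * (1 + c ^ q * d) = -δ := by
    have := congrArg σ hld
    rw [← hσ lam, map_mul, hσ2, map_add, map_one, map_mul, ← hσ d, hσ2, hσ c, hσ δ, hδq] at this
    exact this
  have hpair : ∀ x y : Fin 2 → F, (P *ᵥ x) 0 * (P *ᵥ y) 0 ^ q + (P *ᵥ x) 1 * (P *ᵥ y) 1 ^ q =
      δ * (x 0 * y 1 ^ q - x 1 * y 0 ^ q) := by
    intro x y
    simp only [P, Matrix.mulVec, dotProduct, Fin.sum_univ_two, Matrix.of_apply, Matrix.cons_val',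
      Matrix.cons_val_zero, Matrix.cons_val_one, Matrix.cons_val_fin_one]
    rw [← hσ, ← hσ (_ + _), map_add, map_add, map_mul, map_mul, map_mul, map_mul, map_mul,
      map_one, hσ, hσ, hσ, hσ, hσ]
    have hc0 : c * c ^ q = -1 := by rw [← pow_succ', hc]
    have hd0 : d * d ^ q = -1 := by rw [← pow_succ', hd]
    linear_combination (x 0 * y 0 ^ q) * hc0 + (x 0 * y 1 ^ q) * hld + (x 1 * y 0 ^ q) * hld2 +
      (x 1 * y 1 ^ q * lam * lam ^ q) * hd0
  let Pgl : GL (Fin 2) F := Matrix.GeneralLinearGroup.mkOfDetNeZero P hP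
  let φ : SpecialLinearGroup (Fin 2) F₀ →* Matrix (Fin 2) (Fin 2) F :=
    (Units.coeHom _).comp ((MulAut.conj Pgl).toMonoidHom.comp
      (SpecialLinearGroup.toGL.comp (SpecialLinearGroup.map F₀.subtype)))
  have hdet : ∀ A, (φ A).det = 1 := by
    intro A
    simp only [φ, MonoidHom.comp_apply, Units.coeHom_apply, MulEquiv.coe_toMonoidHom,
      MulAut.conj_apply, Units.val_mul]
    rw [Matrix.det_units_conj]
    exact (SpecialLinearGroup.map F₀.subtype A).2
  let φ' : SpecialLinearGroup (Fin 2) F₀ →* SpecialLinearGroup (Fin 2) F :=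
    { toFun := fun A => ⟨φ A, hdet A⟩
      map_one' := Subtype.ext (map_one φ)
      map_mul' := fun A B => Subtype.ext (map_mul φ A B) }
  have hpres : ∀ A u v, (φ A *ᵥ u) 0 * (φ A *ᵥ v) 0 ^ q + (φ A *ᵥ u) 1 * (φ A *ᵥ v) 1 ^ q =
      u 0 * v 0 ^ q + u 1 * v 1 ^ q := by
    intro A u v
    set M : Matrix (Fin 2) (Fin 2) F := (A : Matrix (Fin 2) (Fin 2) F₀).map F₀.subtype with hM
    set Q : Matrix (Fin 2) (Fin 2) F := ((Pgl⁻¹ : GL (Fin 2) F) : Matrix (Fin 2) (Fin 2) F) with hQ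
    have hPQ : P * Q = 1 := Pgl.mul_inv
    have happ : ∀ u, φ A *ᵥ u = P *ᵥ (M *ᵥ (Q *ᵥ u)) := by
      intro u
      rw [Matrix.mulVec_mulVec, Matrix.mulVec_mulVec]
      rfl
    have hu : u = P *ᵥ (Q *ᵥ u) := by rw [Matrix.mulVec_mulVec, hPQ, Matrix.one_mulVec]
    have hv : v = P *ᵥ (Q *ᵥ v) := by rw [Matrix.mulVec_mulVec, hPQ, Matrix.one_mulVec]
    rw [happ, happ, hpair]
    conv_rhs => rw [hu, hv, hpair]
    generalize Q *ᵥ u = x
    generalize Q *ᵥ v = y
    have hMq : ∀ i j, M i j ^ q = M i j := fun i j => by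
      rw [← hσ]; exact ((A : Matrix (Fin 2) (Fin 2) F₀) i j).2
    have hdM : M 0 0 * M 1 1 - M 0 1 * M 1 0 = 1 := by
      rw [← Matrix.det_fin_two]
      exact (SpecialLinearGroup.map F₀.subtype A).2
    simp only [Matrix.mulVec, dotProduct, Fin.sum_univ_two]
    rw [← hσ, ← hσ (M 0 0 * y 0 + M 0 1 * y 1), map_add, map_add, map_mul, map_mul, map_mul,
      map_mul, hσ, hσ, hσ, hσ, hσ, hσ, hMq, hMq, hMq, hMq]
    linear_combination (δ * (x 0 * y 1 ^ q - x 1 * y 0 ^ q)) * hdM
  obtain ⟨k, rfl⟩ := Nat.exists_eq_add_of_le hn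
  refine hF₀.map (((sl2Block k F).comp φ').codRestrict _ fun A u v => ?_) ?_
  · change Cfsg.hermForm (2 + k) F q
      (Matrix.reindex finSumFinEquiv finSumFinEquiv (Matrix.fromBlocks (φ A) 0 0 1) *ᵥ u)
      (Matrix.reindex finSumFinEquiv finSumFinEquiv (Matrix.fromBlocks (φ A) 0 0 1) *ᵥ v) = _
    simp only [Matrix.reindex_apply, Matrix.submatrix_mulVec_equiv, Cfsg.hermForm, Fin.sum_univ_add,
      Equiv.symm_symm, Function.comp, finSumFinEquiv_symm_apply_castAdd,
      finSumFinEquiv_symm_apply_natAdd, Matrix.fromBlocks_mulVec, Sum.elim_inl, Sum.elim_inr,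
      Matrix.zero_mulVec, add_zero, zero_add, Matrix.one_mulVec, finSumFinEquiv_apply_right]
    congr 1
    rw [Fin.sum_univ_two, Fin.sum_univ_two, hpres]
    rfl
  · intro A B h
    have h1 := sl2Block_injective k (congrArg Subtype.val h)
    have h2 : (φ' A : Matrix (Fin 2) (Fin 2) F) = (φ' B : Matrix (Fin 2) (Fin 2) F) :=
      congrArg Subtype.val h1
    have h3 : (MulAut.conj Pgl) (SpecialLinearGroup.toGL (SpecialLinearGroup.map F₀.subtype A)) =
        (MulAut.conj Pgl) (SpecialLinearGroup.toGL (SpecialLinearGroup.map F₀.subtype B)) :=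
      Units.ext h2
    have h4 := congrArg (fun x : GL (Fin 2) F => (x : Matrix (Fin 2) (Fin 2) F))
      ((MulAut.conj Pgl).injective h3)
    exact Subtype.ext (Matrix.map_injective Subtype.val_injective h4)

end CfsgLib.FreeGroupLaws
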